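import Cfsg.Agent.Lib.Char.NineKlein.Main

/-!
# Families of generalized characters of norm two with mutual inner products one
-/

set_option autoImplicit false
set_option linter.unusedSectionVars false

namespace CfsgLib.Char.ThreeTI

open scoped ComplexConjugate
open Cfsg CfsgLib.Char CfsgLib.Char.Signed

universe u

variable {G : Type u} [Group G] [Fintype G]

/-- A rational algebraic integer is an integer. -/
theorem int_of_rat {z : ℂ} (hz : IsIntegral ℤ z) {a b : ℤ} (hb : b ≠ 0) (h : (b : ℂ) * z = a) :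
    ∃ m : ℤ, z = m := by
  have e : z = (((a : ℚ) / b : ℚ) : ℂ) := by
    have : (b : ℂ) ≠ 0 := by exact_mod_cast hb
    push_cast
    field_simp
    linear_combination h
  have h' : IsIntegral ℤ ((a : ℚ) / b) := by
    rw [← isIntegral_algebraMap_iff (algebraMap ℚ ℂ).injective (A := ℚ) (B := ℂ), eq_ratCast, ← e]
    exact hz
  obtain ⟨m, hm⟩ := IsIntegrallyClosed.isIntegral_iff.1 h'
  exact ⟨m, by rw [e, ← hm]; simp⟩

/-- A common constituent. -/
theorem exists_common {ι : Type*} [Fintype ι] (hι : 4 ≤ Fintype.card ι) {P : ι → G → ℂ}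
    (gP : ∀ k, Gen (P k)) (nP : ∀ k, iq (P k) (P k) = 2) (iP : ∀ k l, k ≠ l → iq (P k) (P l) = 1) :
    ∃ w, Sg w ∧ (∀ k, iq (P k) w = 1) ∧ ∀ k, Sg (P k - w) := by
  classical
  obtain ⟨k₀⟩ : Nonempty ι := Fintype.card_pos_iff.1 (by omega)
  obtain ⟨a, b, ha, hb, hab, hPab⟩ := exists_pair (gP k₀) (nP k₀)
  have hsum : ∀ {a b : G → ℂ}, Sg a → Sg b → P k₀ = a + b → ∀ {k}, k ≠ k₀ →
      iq (P k) a + iq (P k) b = 1 := fun {a b} ha hb e {k} hk => by
    rw [← iq_add_right (gP k) ha.gen hb.gen, ← e, iP k k₀ hk]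
  have pick : ∀ k, k ≠ k₀ → (iq (P k) a = 1 ∧ iq (P k) b = 0) ∨ (iq (P k) a = 0 ∧ iq (P k) b = 1) := by
    intro k hk
    have hs := hsum ha hb hPab hk
    have hbes := Orth.bessel (l := [a, b]) ⟨by simp [ha, hb], by simp [hab]⟩ (gP k)
    simp only [List.map_cons, List.map_nil, List.sum_cons, List.sum_nil, nP] at hbes
    have e : iq (P k) b = 1 - iq (P k) a := by omega
    rw [e] at hbes ⊢
    have h1 : iq (P k) a ≤ 1 := by nlinarith
    have h2 : 0 ≤ iq (P k) a := by nlinarith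
    omega
  have sg_rest : ∀ {a : G → ℂ}, Sg a → ∀ l, iq (P l) a = 1 → Sg (P l - a) := fun {a} ha l hl =>
    Sg.of_iq (isGeneralizedCharacter_sub (gP l) ha.gen) (by
      rw [iq_sub_left (gP l) ha.gen (isGeneralizedCharacter_sub (gP l) ha.gen),
        iq_sub_right (gP l) (gP l) ha.gen, iq_sub_right ha.gen (gP l) ha.gen, nP,
        hl, iq_comm ha.gen (gP l), hl, ha.iq_self]
      norm_num)
  have key : ∀ a b, Sg a → Sg b → iq a b = 0 → P k₀ = a + b → ∀ i j, i ≠ k₀ → j ≠ k₀ → i ≠ j →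
      iq (P i) a = 1 → iq (P i) b = 0 → iq (P j) a = 1 →
      ∀ k, iq (P k) a = 1 := by
    intro a b ha hb hab hPab i j hi hj hij hia hib hja k
    by_cases hk : k = k₀
    · subst hk
      rw [hPab, iq_add_left ha.gen hb.gen ha.gen, ha.iq_self, iq_comm hb.gen ha.gen, hab]; norm_num
    by_cases hki : k = i
    · rw [hki, hia]
    by_cases hkj : k = j
    · rw [hkj, hja]
    by_contra hne
    have hs := hsum ha hb hPab hk
    have hbes0 := Orth.bessel (l := [a, b]) ⟨by simp [ha, hb], by simp [hab]⟩ (gP k)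
    simp only [List.map_cons, List.map_nil, List.sum_cons, List.sum_nil, nP] at hbes0
    have eb : iq (P k) b = 1 - iq (P k) a := by omega
    have ea : iq (P k) a = 0 := by
      rw [eb] at hbes0
      have h1 : iq (P k) a ≤ 1 := by nlinarith
      have h2 : 0 ≤ iq (P k) a := by nlinarith
      omega
    rw [ea] at eb
    have hc := sg_rest ha i hia
    have hd := sg_rest ha j hja
    have hcd : iq (P i - a) (P j - a) = 0 := by
      rw [iq_sub_left (gP i) ha.gen hd.gen, iq_sub_right (gP i) (gP j) ha.gen,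
        iq_sub_right ha.gen (gP j) ha.gen, iP i j hij, hia, iq_comm ha.gen (gP j), hja, ha.iq_self]
      norm_num
    have hjb : iq (P j) b = 0 := by
      have := hsum ha hb hPab hj
      omega
    have hbc : iq b (P i - a) = 0 := by
      rw [iq_sub_right hb.gen (gP i) ha.gen, iq_comm hb.gen (gP i), hib, iq_comm hb.gen ha.gen, hab]
      norm_num
    have hbd : iq b (P j - a) = 0 := by
      rw [iq_sub_right hb.gen (gP j) ha.gen, iq_comm hb.gen (gP j), hjb, iq_comm hb.gen ha.gen, hab]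
      norm_num
    have hbes := Orth.bessel (l := [b, P i - a, P j - a]) ⟨by simp [hb, hc, hd], by simp [hbc, hbd, hcd]⟩
      (gP k)
    simp only [List.map_cons, List.map_nil, List.sum_cons, List.sum_nil, iq_sub_right (gP k) (gP i) ha.gen,
      iq_sub_right (gP k) (gP j) ha.gen, nP, iP k i hki, iP k j hkj, ea, eb] at hbes
    norm_num at hbes
  obtain ⟨k₁, hk₁, k₂, hk₂, k₃, hk₃, h12, h13, h23⟩ : ∃ k₁ ∈ Finset.univ.erase k₀, ∃ k₂ ∈ Finset.univ.erase k₀,
      ∃ k₃ ∈ Finset.univ.erase k₀, k₁ ≠ k₂ ∧ k₁ ≠ k₃ ∧ k₂ ≠ k₃ := by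
    refine Finset.two_lt_card.1 ?_
    rw [Finset.card_erase_of_mem (Finset.mem_univ _), Finset.card_univ]
    omega
  have n1 := Finset.ne_of_mem_erase hk₁
  have n2 := Finset.ne_of_mem_erase hk₂
  have n3 := Finset.ne_of_mem_erase hk₃
  have hba : iq b a = 0 := by rw [iq_comm hb.gen ha.gen, hab]
  have hPba : P k₀ = b + a := by rw [hPab, add_comm]
  have fin : ∀ w, Sg w → (∀ k, iq (P k) w = 1) → ∃ w, Sg w ∧ (∀ k, iq (P k) w = 1) ∧ ∀ k, Sg (P k - w) :=
    fun w hw hall => ⟨w, hw, hall, fun k => sg_rest hw k (hall k)⟩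
  rcases pick k₁ n1 with ⟨x1, y1⟩ | ⟨x1, y1⟩ <;>
    rcases pick k₂ n2 with ⟨x2, y2⟩ | ⟨x2, y2⟩ <;>
      rcases pick k₃ n3 with ⟨x3, y3⟩ | ⟨x3, y3⟩
  all_goals first
    | exact fin a ha (key a b ha hb hab hPab k₁ k₂ n1 n2 h12 x1 y1 x2)
    | exact fin a ha (key a b ha hb hab hPab k₁ k₃ n1 n3 h13 x1 y1 x3)
    | exact fin a ha (key a b ha hb hab hPab k₂ k₃ n2 n3 h23 x2 y2 x3)
    | exact fin b hb (key b a hb ha hba hPba k₁ k₂ n1 n2 h12 y1 x1 y2)
    | exact fin b hb (key b a hb ha hba hPba k₁ k₃ n1 n3 h13 y1 x1 y3)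
    | exact fin b hb (key b a hb ha hba hPba k₂ k₃ n2 n3 h23 y2 x2 y3)

/-- The squares of the degrees of orthogonal signed irreducible characters sum to at most the order. -/
theorem card_mul_sq_le {ι : Type*} [Fintype ι] {X : ι → G → ℂ} (hX : ∀ i, Sg (X i))
    (ho : ∀ i j, i ≠ j → iq (X i) (X j) = 0) {n : ℤ} (hn : ∀ i, X i 1 = n) :
    (Fintype.card ι : ℤ) * n ^ 2 ≤ (Nat.card G : ℤ) := by
  classical
  have := Fintype.ofFinite (IrrCharacter G)
  choose χ ε hε hf using fun i => (hX i).exists_irr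
  choose d hd0 hd using fun ψ : IrrCharacter G => isIrrCharacter_degree ψ.2
  have hinj : Function.Injective χ := by
    intro i j e
    by_contra hne
    have h := ho i j hne
    rw [hf i, hf j, e, iq_smul_left (Sg.of_irr _).gen ((Sg.of_irr _).gen.zsmul _),
      iq_smul_right (Sg.of_irr _).gen (Sg.of_irr _).gen, (Sg.of_irr _).iq_self] at h
    rcases hε i with e1 | e1 <;> rcases hε j with e2 | e2 <;> simp [e1, e2] at h
  have hs := sum_degree_sq (G := G)
  simp only [hd] at hs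
  have hs' : ∑ ψ : IrrCharacter G, d ψ ^ 2 = Nat.card G := by exact_mod_cast hs
  have hsq : ∀ i, ((d (χ i) : ℤ)) ^ 2 = n ^ 2 := by
    intro i
    have h1 := hn i
    rw [hf i, Pi.smul_apply, smul_eq_mul, hd] at h1
    have h2 : ε i * (d (χ i) : ℤ) = n := by exact_mod_cast h1
    rw [← h2, mul_pow, show ε i ^ 2 = 1 by rcases hε i with e1 | e1 <;> rw [e1] <;> norm_num, one_mul]
  calc (Fintype.card ι : ℤ) * n ^ 2 = ∑ i : ι, ((d (χ i) : ℤ)) ^ 2 := by
        rw [Finset.sum_congr rfl fun i _ => hsq i, Finset.sum_const, Finset.card_univ, nsmul_eq_mul]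
    _ = ∑ ψ ∈ Finset.univ.image χ, ((d ψ : ℤ)) ^ 2 := (Finset.sum_image (f := fun ψ : IrrCharacter G => ((d ψ : ℤ)) ^ 2) fun i _ j _ e => hinj e).symm
    _ ≤ ∑ ψ : IrrCharacter G, ((d ψ : ℤ)) ^ 2 :=
        Finset.sum_le_sum_of_subset_of_nonneg (Finset.subset_univ _) fun _ _ _ => sq_nonneg _
    _ = (Nat.card G : ℤ) := by exact_mod_cast hs'

end CfsgLib.Char.ThreeTI
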