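import Cfsg.Agent.Lib.Char.ThreeTI.Norms
import Cfsg.Agent.Lib.Char.ThreeTI.Common
import Cfsg.Agent.Lib.Coprime.Solvable

/-!
# Trivial intersection subgroups of exponent three with many linear characters are normal
-/

set_option autoImplicit false
set_option linter.unusedSectionVars false

namespace CfsgLib.Char.ThreeTI

open scoped ComplexConjugate
open Cfsg CfsgLib.Char CfsgLib.Char.Signed

universe u

variable {G : Type u} [Group G] [Fintype G] {V : Subgroup G}

theorem ix_pos (V : Subgroup G) : 0 < ix V := Nat.pos_of_ne_zero Subgroup.index_ne_zero_of_finite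

theorem T3.Sf_eq (h : T3 V) (μ : V →* ℂˣ) {x : V} (hx : x ≠ 1) :
    Sf V μ x = (ix V : ℂ) - R V μ (x : G) := by
  have hq : (Nat.card V : ℂ) ≠ 0 := by exact_mod_cast Nat.card_pos.ne'
  rw [h.R_el μ hx, card_normalizer, Nat.cast_mul, mul_div_cancel_right₀ _ hq, sub_sub_cancel]

theorem T3.Sf_isIntegral (h : T3 V) (μ : V →* ℂˣ) {x : V} (hx : x ≠ 1) : IsIntegral ℤ (Sf V μ x) := by
  rw [h.Sf_eq μ hx]
  exact (isIntegral_algebraMap (x := (ix V : ℤ))).sub (generalized_isIntegral (R_gen μ) _)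

theorem T3.R_eq_of_rel (h : T3 V) (hco : ¬ 3 ∣ ix V) {lam μ : V →* ℂˣ} (hl : lam ≠ 1) (hm : μ ≠ 1)
    (hr : Rel V lam μ) : R V lam = R V μ := by
  classical
  have gl := R_gen (V := V) lam
  have gm := R_gen (V := V) μ
  have n1 : iq (R V lam) (R V lam) = ix V + 1 :=
    iq_eq _ (by rw [h.inner_R hco hl hl, if_pos (Rel.refl _)]; push_cast; ring)
  have n2 : iq (R V μ) (R V μ) = ix V + 1 :=
    iq_eq _ (by rw [h.inner_R hco hm hm, if_pos (Rel.refl _)]; push_cast; ring)
  have n3 : iq (R V lam) (R V μ) = ix V + 1 :=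
    iq_eq _ (by rw [h.inner_R hco hl hm, if_pos hr]; push_cast; ring)
  refine sub_eq_zero.1 (eq_zero_of_iq_self (isGeneralizedCharacter_sub gl gm) ?_)
  rw [iq_sub_left gl gm (isGeneralizedCharacter_sub gl gm), iq_sub_right gl gl gm, iq_sub_right gm gl gm,
    n1, n2, n3, iq_comm gm gl, n3]
  ring

theorem Sf_of_fixed (μ : V →* ℂˣ) (x : V) (hx : ∀ n, μ (cj V n x) = 1) : Sf V μ x = (ix V : ℂ) := by
  classical
  have := Fintype.ofFinite (Subgroup.normalizer (V : Set G))
  have hq : (Nat.card V : ℂ) ≠ 0 := by exact_mod_cast Nat.card_pos.ne'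
  rw [Sf, finsum_eq_sum_of_fintype, Finset.sum_congr rfl (g := fun _ => (1 : ℂ)) fun n _ => by rw [hx n, Units.val_one],
    Finset.sum_const, Finset.card_univ, nsmul_eq_mul, mul_one, ← Nat.card_eq_fintype_card, card_normalizer,
    Nat.cast_mul, mul_comm, mul_assoc, mul_inv_cancel₀ hq, mul_one]

theorem lin_sum_eq_zero [Fintype (V →* ℂˣ)] {y : V} (μ₀ : V →* ℂˣ) (hy : μ₀ y ≠ 1) :
    ∑ μ : V →* ℂˣ, (μ y : ℂ) = 0 := by
  have e : ∑ μ : V →* ℂˣ, (μ y : ℂ) = (μ₀ y : ℂ) * ∑ μ : V →* ℂˣ, (μ y : ℂ) := by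
    rw [Finset.mul_sum, ← Equiv.sum_comp (Equiv.mulLeft μ₀)]
    exact Finset.sum_congr rfl fun μ _ => by simp
  have hne : (μ₀ y : ℂ) - 1 ≠ 0 := sub_ne_zero.2 fun e1 => hy (Units.ext e1)
  exact (mul_eq_zero.1 (show ((μ₀ y : ℂ) - 1) * ∑ μ : V →* ℂˣ, (μ y : ℂ) = 0 by
    linear_combination -e)).resolve_left hne

theorem T3.card_conj (h : T3 V) {x : V} (hx : x ≠ 1)
    (hc : Subgroup.centralizer ({(x : G)} : Set G) = V) :
    Nat.card {y : V // IsConj (x : G) (y : G)} = ix V := by
  classical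
  have e := h.class_sum 1 hx
  rw [Sf_of_fixed 1 x (fun _ => rfl), finsum_eq_sum_of_fintype, hc] at e
  simp only [MonoidHom.one_apply, Units.val_one, Finset.sum_const, Finset.card_univ, nsmul_eq_mul,
    mul_one, ← Nat.card_eq_fintype_card] at e
  have e' : Nat.card V * Nat.card {y : V // IsConj (x : G) (y : G)} = Nat.card V * ix V := by
    exact_mod_cast e
  exact Nat.eq_of_mul_eq_mul_left Nat.card_pos e'

theorem le_sq_of {g k c n t : ℤ} (hg : 0 < g) (hk : k ≠ 0) (e : k * g = c * n) (h : t * n ^ 2 ≤ g)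
    (ht : 0 ≤ t) : t * g ≤ c ^ 2 := by
  have h1 : g ^ 2 ≤ (k * g) ^ 2 := by
    rw [mul_pow]
    exact le_mul_of_one_le_left (sq_nonneg g) (by have := mul_self_pos.2 hk; rw [pow_two]; omega)
  rw [e, mul_pow] at h1
  have h2 : t * g ^ 2 ≤ c ^ 2 * g :=
    calc t * g ^ 2 ≤ t * (c ^ 2 * n ^ 2) := mul_le_mul_of_nonneg_left h1 ht
      _ = c ^ 2 * (t * n ^ 2) := by ring
      _ ≤ c ^ 2 * g := mul_le_mul_of_nonneg_left h (sq_nonneg c)
  exact le_of_mul_le_mul_right (by linear_combination h2) hg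

/-- The orbits of non-trivial linear characters have the index as length. -/
theorem T3.card_orbit (h : T3 V) (hco : ¬ 3 ∣ ix V) {μ : V →* ℂˣ} (hμ : μ ≠ 1) :
    Nat.card {lam : V →* ℂˣ // Rel V lam μ} = ix V := by
  classical
  haveI : Finite (V →* ℂˣ) := Finite.of_equiv _ (linearCharEquiv (G := V)).symm
  letI := Fintype.ofFinite {lam : V →* ℂˣ // Rel V lam μ}
  have e1 : Nat.card {lam : V →* ℂˣ // Rel V lam μ} * Nat.card V = ix V * Nat.card V := by
    rw [← card_normalizer, Nat.card_congr (Equiv.sigmaFiberEquiv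
      (fun n : Subgroup.normalizer (V : Set G) => (⟨conjHom V μ n, n, rfl⟩ : {lam : V →* ℂˣ // Rel V lam μ}))).symm,
      Nat.card_sigma, Finset.sum_congr rfl (g := fun _ => Nat.card V) fun lam _ => ?_, Finset.sum_const,
      Finset.card_univ, smul_eq_mul, Nat.card_eq_fintype_card]
    rw [← h.card_fibre hco hμ lam.2]
    exact Nat.card_congr (Equiv.subtypeEquivRight fun n => Subtype.ext_iff)
  exact Nat.eq_of_mul_eq_mul_right Nat.card_pos e1

/-- The index divides the number of non-trivial linear characters. -/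
theorem T3.ix_dvd (h : T3 V) (hco : ¬ 3 ∣ ix V) : ix V ∣ Nat.card (V →* ℂˣ) - 1 := by
  classical
  haveI : Finite (V →* ℂˣ) := Finite.of_equiv _ (linearCharEquiv (G := V)).symm
  letI := Fintype.ofFinite (V →* ℂˣ)
  letI s : Setoid {μ : V →* ℂˣ // μ ≠ 1} :=
    ⟨fun x y => Rel V x.1 y.1, ⟨fun x => Rel.refl _, Rel.symm, Rel.trans⟩⟩
  letI : Fintype (Quotient s) := Fintype.ofFinite _
  have hA1 : Nat.card {μ : V →* ℂˣ // μ ≠ 1} = Nat.card (V →* ℂˣ) - 1 := by
    rw [Nat.card_eq_fintype_card, Fintype.card_subtype_compl, Fintype.card_subtype_eq, Nat.card_eq_fintype_card]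
  rw [← hA1, Nat.card_congr (Equiv.sigmaFiberEquiv
    (fun x : {μ : V →* ℂˣ // μ ≠ 1} => (⟦x⟧ : Quotient s))).symm, Nat.card_sigma]
  refine Finset.dvd_sum fun o _ => ?_
  obtain ⟨μ, rfl⟩ := Quotient.exists_rep o
  rw [← h.card_orbit hco μ.2]
  refine dvd_of_eq (Nat.card_congr
    { toFun := fun l => ⟨⟨l.1, fun e => by
        obtain ⟨n, hn⟩ := l.2
        exact conjHom_ne_one μ.2 n (hn.trans e)⟩, Quotient.sound l.2⟩
      invFun := fun x => ⟨x.1.1, Quotient.exact x.2⟩
      left_inv := fun _ => rfl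
      right_inv := fun _ => rfl })

/-- The order of the group is bounded. -/
theorem T3.card_le (h : T3 V) (hco : ¬ 3 ∣ ix V) (h5 : 5 * ix V < Nat.card (V →* ℂˣ))
    (h2 : ix V * (ix V + 2) < Nat.card (V →* ℂˣ)) : Nat.card G ≤ ix V * Nat.card V ^ 2 := by
  classical
  haveI : Finite (V →* ℂˣ) := Finite.of_equiv _ (linearCharEquiv (G := V)).symm
  letI := Fintype.ofFinite (V →* ℂˣ)
  letI := Fintype.ofFinite V
  letI := Fintype.ofFinite (Subgroup.normalizer (V : Set G))
  have he := ix_pos (G := G) V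
  have hq : (Nat.card V : ℂ) ≠ 0 := by exact_mod_cast Nat.card_pos.ne'
  have hG := card_ne_zero' (G := G)
  -- the orbits
  letI s : Setoid {μ : V →* ℂˣ // μ ≠ 1} :=
    ⟨fun x y => Rel V x.1 y.1, ⟨fun x => Rel.refl _, Rel.symm, Rel.trans⟩⟩
  let O := Quotient s
  letI : Fintype O := Fintype.ofFinite O
  obtain ⟨rep, hrep⟩ : ∃ rep : O → (V →* ℂˣ), ∀ o, rep o = (o.out).1 := ⟨_, fun _ => rfl⟩
  have hne : ∀ o, rep o ≠ 1 := fun o => hrep o ▸ (o.out).2
  have hinj : ∀ i j, Rel V (rep i) (rep j) → i = j := fun i j hr => by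
    rw [hrep, hrep] at hr
    exact Quotient.out_equiv_out.1 hr
  have hcov : ∀ μ : V →* ℂˣ, μ ≠ 1 → ∃ o, Rel V μ (rep o) := fun μ hμ =>
    ⟨(⟦⟨μ, hμ⟩⟧ : O), by rw [hrep]; exact Rel.symm (Quotient.mk_out (⟨μ, hμ⟩ : {μ : V →* ℂˣ // μ ≠ 1}))⟩
  have hA1 : Nat.card {μ : V →* ℂˣ // μ ≠ 1} = Nat.card (V →* ℂˣ) - 1 := by
    rw [Nat.card_eq_fintype_card, Fintype.card_subtype_compl, Fintype.card_subtype_eq, Nat.card_eq_fintype_card]
  have hfib : ∀ o : O, Nat.card {x : {μ : V →* ℂˣ // μ ≠ 1} // (⟦x⟧ : O) = o} = ix V := by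
    intro o
    rw [← h.card_orbit hco (hne o)]
    refine Nat.card_congr
      { toFun := fun x => ⟨x.1.1, by
          have : Rel V x.1.1 (o.out).1 := Rel.symm (by
            have := Quotient.mk_out (s := s) x.1
            rwa [show (Quotient.mk s x.1 : O) = o from x.2] at this)
          rwa [hrep]⟩
        invFun := fun l => ⟨⟨l.1, fun e => by
            obtain ⟨n, hn⟩ := l.2
            exact conjHom_ne_one (hne o) n (hn.trans e)⟩, by
          refine (Quotient.sound ?_).trans (Quotient.out_eq o)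
          show Rel V l.1 (o.out).1
          rw [← hrep]
          exact l.2⟩
        left_inv := fun x => rfl
        right_inv := fun l => rfl }
  have hcard : Nat.card (V →* ℂˣ) - 1 = Fintype.card O * ix V := by
    rw [← hA1, Nat.card_congr (Equiv.sigmaFiberEquiv
      (fun x : {μ : V →* ℂˣ // μ ≠ 1} => (⟦x⟧ : O))).symm, Nat.card_sigma,
      Finset.sum_congr rfl fun o _ => hfib o, Finset.sum_const, Finset.card_univ, smul_eq_mul]
  have ht5 : 5 ≤ Fintype.card O :=
    Nat.le_of_mul_le_mul_right (show 5 * ix V ≤ Fintype.card O * ix V by omega) he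
  have hte : ix V + 2 ≤ Fintype.card O :=
    Nat.le_of_mul_le_mul_right (show (ix V + 2) * ix V ≤ Fintype.card O * ix V by
      rw [mul_comm (ix V + 2)]; omega) he
  obtain ⟨o₀⟩ : Nonempty O := Fintype.card_pos_iff.1 (by omega)
  -- the induced functions
  have gR : ∀ o, Gen (R V (rep o)) := fun o => R_gen _
  have nR : ∀ i j, iq (R V (rep i)) (R V (rep j)) = ix V + if i = j then 1 else 0 := fun i j =>
    iq_eq _ (by
      rw [h.inner_R hco (hne i) (hne j)]
      by_cases e : i = j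
      · subst e; rw [if_pos (Rel.refl _), if_pos rfl]; push_cast; ring
      · rw [if_neg (mt (hinj i j) e), if_neg e]; push_cast; ring)
  have nRI : ∀ o, iq (R V (rep o)) (fun _ => 1) = 1 := fun o =>
    iq_eq 1 (by rw [inner_R_one _ (hne o), Int.cast_one])
  obtain ⟨P, hP⟩ : ∃ P : O → G → ℂ, ∀ o, P o = R V (rep o) - R V (rep o₀) := ⟨_, fun _ => rfl⟩
  have gP : ∀ o, Gen (P o) := fun o => hP o ▸ isGeneralizedCharacter_sub (gR o) (gR o₀)
  have nP : ∀ i j, iq (P i) (P j) =
      (if i = j then 1 else 0) - (if i = o₀ then 1 else 0) - (if o₀ = j then 1 else 0) + 1 := fun i j => by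
    rw [hP, hP, iq_sub_left (gR i) (gR o₀) (isGeneralizedCharacter_sub (gR j) (gR o₀)),
      iq_sub_right (gR i) (gR j) (gR o₀), iq_sub_right (gR o₀) (gR j) (gR o₀), nR, nR, nR, nR, if_pos rfl]
    ring
  obtain ⟨w, hw, hw1, hwu⟩ := exists_common (ι := {o : O // o ≠ o₀}) (P := fun o => P o.1) (by
      rw [Fintype.card_subtype_compl, Fintype.card_subtype_eq]; omega)
    (fun o => gP o.1)
    (fun o => by rw [nP, if_pos rfl, if_neg o.2, if_neg (Ne.symm o.2)]; norm_num)
    (fun k l hkl => by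
      rw [nP, if_neg (fun e => hkl (Subtype.ext e)), if_neg k.2, if_neg (Ne.symm l.2)]; norm_num)
  have hPw : ∀ o, iq (P o) w = if o = o₀ then 0 else 1 := fun o => by
    split_ifs with e
    · rw [hP, e, iq_sub_left (gR o₀) (gR o₀) hw.gen, sub_self]
    · exact hw1 ⟨o, e⟩
  obtain ⟨X, hX⟩ : ∃ X : O → G → ℂ, ∀ o, X o = w - P o := ⟨_, fun _ => rfl⟩
  have sX : ∀ o, Sg (X o) := fun o => by
    rw [hX]
    by_cases e : o = o₀
    · rw [hP, e, sub_self, sub_zero]; exact hw
    · rw [← neg_sub]; exact (hwu ⟨o, e⟩).neg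
  have oX : ∀ i j, i ≠ j → iq (X i) (X j) = 0 := fun i j hij => by
    rw [hX, hX, iq_sub_left hw.gen (gP i) (isGeneralizedCharacter_sub hw.gen (gP j)),
      iq_sub_right hw.gen hw.gen (gP j), iq_sub_right (gP i) hw.gen (gP j), hw.iq_self, hPw, nP,
      iq_comm hw.gen (gP j), hPw, if_neg hij]
    by_cases ei : i = o₀
    · rw [if_pos ei, if_pos ei, if_neg (fun ej : j = o₀ => hij (ei.trans ej.symm)),
        if_neg (fun ej : o₀ = j => hij (ei.trans ej))]; norm_num
    · rw [if_neg ei, if_neg ei]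
      by_cases ej : j = o₀
      · rw [if_pos ej, if_pos ej.symm]; norm_num
      · rw [if_neg ej, if_neg (Ne.symm ej)]; norm_num
  have hdiff : ∀ i j, R V (rep i) - R V (rep j) = X j - X i := fun i j => by
    rw [hX, hX, hP, hP]; abel
  obtain ⟨n, hn0, hn⟩ := (sX o₀).apply_one_int
  have hn' : ∀ o, X o 1 = n := fun o => by
    have e := congrFun (hdiff o o₀) 1
    simp only [Pi.sub_apply, R_one, sub_zero] at e
    rw [← hn]; linear_combination e
  have hdeg := card_mul_sq_le sX oX hn'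
  have hnc : (n : ℂ) ≠ 0 := by exact_mod_cast hn0
  have hval : ∀ i j (x : V), x ≠ 1 → X i (x : G) - Sf V (rep i) x = X j (x : G) - Sf V (rep j) x :=
    fun i j x hx => by
      have e := congrFun (hdiff i j) (x : G)
      simp only [Pi.sub_apply] at e
      rw [h.Sf_eq _ hx, h.Sf_eq _ hx]
      linear_combination e
  have hE : ∀ a b : V, a ≠ 1 → (∀ v, a * v = v * a) → b ≠ 1 → ¬ IsConj (a : G) (b : G) →
      Subgroup.centralizer ({(a : G)} : Set G) = V → ∀ i j,
      (X j (a : G) * X j (b : G) - X i (a : G) * X i (b : G)) / (n : ℂ) =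
        (Nat.card V : ℂ) / (Nat.card G : ℂ) *
          (Sf V (rep j) a * Sf V (rep j) b - Sf V (rep i) a * Sf V (rep i) b) := by
    intro a b ha hz hb hab hc i j
    rw [← h.lfun_diff ha hz hb hab hc (rep i) (rep j), hdiff i j, sub_eq_add_neg (X j),
      NineKlein.KHyp.lfun_add, NineKlein.KHyp.lfun_sg _ _ (sX j), NineKlein.KHyp.lfun_sg _ _ (sX i).neg]
    simp only [Pi.neg_apply, hn']
    field_simp
    ring
  have hSinv : ∀ μ : V →* ℂˣ, μ ≠ 1 → ∃ o, ∀ x : V, x ≠ 1 → Sf V μ x = Sf V (rep o) x := fun μ hμ => by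
    obtain ⟨o, ho⟩ := hcov μ hμ
    exact ⟨o, fun x hx => by rw [h.Sf_eq _ hx, h.Sf_eq _ hx, h.R_eq_of_rel hco hμ (hne o) ho]⟩
  have hconst : ∀ (F : (V →* ℂˣ) → ℂ) (c : ℂ), (∀ μ, μ ≠ 1 → F μ = c) →
      ∑ μ, F μ = F 1 + ((Nat.card (V →* ℂˣ) - 1 : ℕ) : ℂ) * c := fun F c hF => by
    rw [← Finset.add_sum_erase Finset.univ F (Finset.mem_univ 1),
      Finset.sum_congr rfl (g := fun _ => c) fun μ hμ => hF μ (Finset.ne_of_mem_erase hμ), Finset.sum_const,
      Finset.card_erase_of_mem (Finset.mem_univ _), Finset.card_univ, nsmul_eq_mul, ← Nat.card_eq_fintype_card]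
  have hGpos : (0 : ℤ) < (Nat.card G : ℤ) := by exact_mod_cast Nat.card_pos
  suffices hkey : (Fintype.card O : ℤ) * Nat.card G ≤ ((Nat.card V : ℤ) * ix V) ^ 2 by
    have h3 : (ix V : ℤ) * Nat.card G ≤ (Fintype.card O : ℤ) * Nat.card G :=
      mul_le_mul_of_nonneg_right (by exact_mod_cast (by omega : ix V ≤ Fintype.card O)) hGpos.le
    have h4 : ix V * Nat.card G ≤ ix V * (ix V * Nat.card V ^ 2) := by
      have := h3.trans hkey
      have e : ((Nat.card V : ℤ) * ix V) ^ 2 = ((ix V * (ix V * Nat.card V ^ 2) : ℕ) : ℤ) := by push_cast; ring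
      rw [e] at this
      exact_mod_cast this
    exact Nat.le_of_mul_le_mul_left h4 he
  by_cases hA : ∃ a : V, a ≠ 1 ∧ (∀ v, a * v = v * a) ∧ ∀ μ : V →* ℂˣ, μ a = 1
  · -- an element in the kernel of all linear characters
    obtain ⟨a, ha, hz, hall⟩ := hA
    have hc : Subgroup.centralizer ({(a : G)} : Set G) = V :=
      le_antisymm (h.cent _ a.2 fun e => ha (Subtype.ext e)) fun v hv =>
        Subgroup.mem_centralizer_singleton_iff.2 (congrArg Subtype.val (hz ⟨v, hv⟩)).symm
    have hSa : ∀ μ : V →* ℂˣ, Sf V μ a = (ix V : ℂ) := fun μ =>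
      Sf_of_fixed μ a fun m => hall (conjHom V μ m)
    obtain ⟨b, hb⟩ : ∃ b, rep o₀ b ≠ 1 := by
      by_contra hc'
      push Not at hc'
      exact hne o₀ (MonoidHom.ext hc')
    have hb1 : b ≠ 1 := fun e => hb (by rw [e, map_one])
    have hab : ¬ IsConj (a : G) (b : G) := fun hcj => by
      obtain ⟨g, hg⟩ := isConj_iff.1 hcj
      have hgN := h.ti g a a.2 (fun e => ha (Subtype.ext e)) (hg ▸ b.2)
      apply hb
      rw [show b = cj V ⟨g, hgN⟩ a from Subtype.ext hg.symm]
      exact hall (conjHom V (rep o₀) ⟨g, hgN⟩)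
    obtain ⟨i, j, hij⟩ : ∃ i j, Sf V (rep i) b ≠ Sf V (rep j) b := by
      by_contra hall'
      push Not at hall'
      have hsum : ∑ μ : V →* ℂˣ, Sf V μ b = 0 := by
        simp only [Sf, finsum_eq_sum_of_fintype, ← Finset.mul_sum]
        rw [Finset.sum_comm, Finset.sum_eq_zero fun m _ => lin_sum_eq_zero (conjHom V (rep o₀) m⁻¹) ?_, mul_zero]
        rw [conjHom_apply, ← cj_mul, inv_mul_cancel, show cj V 1 b = b by simp [cj]]
        exact hb
      rw [hconst (fun μ => Sf V μ b) (Sf V (rep o₀) b) fun μ hμ => by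
        obtain ⟨o, ho⟩ := hSinv μ hμ
        rw [ho b hb1, hall' o o₀]] at hsum
      beta_reduce at hsum
      rw [Sf_of_fixed 1 b fun _ => rfl] at hsum
      obtain ⟨k, hk⟩ := int_of_rat (h.Sf_isIntegral (rep o₀) hb1)
        (a := -(ix V : ℤ)) (b := ((Nat.card (V →* ℂˣ) - 1 : ℕ) : ℤ)) (by omega)
        (by push_cast; linear_combination hsum)
      rw [hk] at hsum
      have e : (ix V : ℤ) + ((Nat.card (V →* ℂˣ) - 1 : ℕ) : ℤ) * k = 0 := by exact_mod_cast hsum
      have : ((Nat.card (V →* ℂˣ) - 1 : ℕ) : ℤ) ∣ (ix V : ℤ) := ⟨-k, by linear_combination e⟩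
      have := Nat.le_of_dvd he (Int.natCast_dvd_natCast.1 this)
      omega
    have hXa : X j (a : G) = X i (a : G) := by
      have := hval j i a ha
      rw [hSa, hSa] at this
      linear_combination this
    have e := hE a b ha hz hb1 hab hc i j
    rw [hXa, hSa, hSa] at e
    have hd : X j (b : G) - X i (b : G) = Sf V (rep j) b - Sf V (rep i) b := by
      linear_combination hval j i b hb1
    have hd0 : Sf V (rep j) b - Sf V (rep i) b ≠ 0 := sub_ne_zero.2 (Ne.symm hij)
    have eK : (Nat.card G : ℂ) * X i (a : G) = (Nat.card V : ℂ) * (ix V : ℂ) * (n : ℂ) := by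
      field_simp at e
      refine mul_right_cancel₀ hd0 ?_
      linear_combination e - (Nat.card G : ℂ) * X i (a : G) * hd
    obtain ⟨k, hk⟩ := int_of_rat (generalized_isIntegral (sX i).gen (a : G))
      (a := (Nat.card V : ℤ) * ix V * n) (b := (Nat.card G : ℤ)) hGpos.ne' (by push_cast; exact eK)
    rw [hk] at eK
    have e' : (Nat.card G : ℤ) * k = (Nat.card V : ℤ) * ix V * n := by exact_mod_cast eK
    refine le_sq_of hGpos (k := k) (n := n) ?_ (by linear_combination e') hdeg (Int.natCast_nonneg _)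
    rintro rfl
    rw [mul_zero] at e'
    rcases mul_eq_zero.1 e'.symm with e1 | e1
    · rcases mul_eq_zero.1 e1 with e2 | e2
      · exact Nat.card_pos.ne' (by exact_mod_cast e2)
      · exact he.ne' (by exact_mod_cast e2)
    · exact hn0 e1
  · -- an abelian subgroup
    haveI : Group.IsNilpotent V :=
      (show IsPGroup 3 V from fun x => ⟨1, Subtype.ext (by rw [pow_one]; exact h.exp x x.2)⟩).isNilpotent
    have hcom : ∀ x y : V, x * y = y * x := by
      intro x y
      by_contra hxy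
      have hcne : commutator V ≠ ⊥ := fun e => hxy (commutatorElement_eq_one_iff_mul_comm.1 (by
        have := Subgroup.commutator_mem_commutator (Subgroup.mem_top x) (Subgroup.mem_top y)
        rw [← commutator_def, e, Subgroup.mem_bot] at this
        exact this))
      obtain ⟨z, hzz, hz1⟩ := (Subgroup.bot_or_exists_ne_one _).resolve_left
        (CfsgLib.Coprime.nilpotent_inf_center_ne_bot (commutator V) hcne)
      exact hA ⟨z, hz1, fun v => (Subgroup.mem_center_iff.1 hzz.2 v).symm,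
        fun μ => MonoidHom.mem_ker.1 (Abelianization.commutator_subset_ker μ hzz.1)⟩
    push Not at hA
    have hsep : ∀ x : V, x ≠ 1 → ∃ μ : V →* ℂˣ, μ x ≠ 1 := fun x hx => hA x hx (hcom x)
    have hc : ∀ x : V, x ≠ 1 → Subgroup.centralizer ({(x : G)} : Set G) = V := fun x hx =>
      le_antisymm (h.cent _ x.2 fun e => hx (Subtype.ext e)) fun v hv =>
        Subgroup.mem_centralizer_singleton_iff.2 (congrArg Subtype.val (hcom ⟨v, hv⟩ x))
    set I : G → ℂ := fun _ => 1 with hI
    have sI : Sg I := NineTI.sg_unit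
    obtain ⟨M, hM⟩ : ∃ M : ℤ, M = iq (R V (rep o₀)) (X o₀) + 1 := ⟨_, rfl⟩
    have hRX : ∀ i, iq (R V (rep i)) (X o₀) = M - if i = o₀ then 1 else 0 := fun i => by
      have e1 : iq (R V (rep i) - R V (rep o₀)) (X o₀) = 1 - if i = o₀ then 1 else 0 := by
        rw [hdiff, iq_sub_left (sX o₀).gen (sX i).gen (sX o₀).gen, (sX o₀).iq_self]
        by_cases ei : i = o₀
        · rw [ei, (sX o₀).iq_self, if_pos rfl]
        · rw [oX i o₀ ei, if_neg ei]
      rw [iq_sub_left (gR i) (gR o₀) (sX o₀).gen] at e1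
      omega
    set ψ : G → ℂ := X o₀ + R V (rep o₀) - ((M + ix V : ℤ) : ℂ) • I with hψ
    have gψ : Gen ψ := isGeneralizedCharacter_sub (isGeneralizedCharacter_add (sX o₀).gen (gR o₀))
      (sI.gen.zsmul _)
    have hψ0 : ∀ μ : V →* ℂˣ, μ ≠ 1 → classInner (R V μ) ψ = 0 := fun μ hμ => by
      obtain ⟨o, ho⟩ := hcov μ hμ
      rw [h.R_eq_of_rel hco hμ (hne o) ho, hψ, classInner_sub_right, classInner_add_right,
        classInner_smul_right, iq_spec (gR o) (sX o₀).gen, iq_spec (gR o) (gR o₀), hI,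
        inner_R_one _ (hne o), hRX, nR, map_intCast]
      push_cast
      ring
    have hfour : ∀ μ : V →* ℂˣ, ∑ x : V, (μ x : ℂ) * conj (ψ (x : G)) = ∑ x : V, conj (ψ (x : G)) := fun μ => by
      by_cases hμ : μ = 1
      · subst hμ; simp
      have e := hψ0 μ hμ
      rw [R, classInner_indFun V _ _ (isClassFunction_of_isGeneralized gψ), classInner, mul_eq_zero] at e
      have e' := e.resolve_left (inv_ne_zero hq)
      simp only [sub_mul, one_mul, Finset.sum_sub_distrib, sub_eq_zero] at e'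
      exact e'.symm
    have hψv : ∀ y : V, y ≠ 1 → ψ (y : G) = 0 := by
      intro y hy
      have e1 : ∑ μ : V →* ℂˣ, (μ y⁻¹ : ℂ) * ∑ x : V, (μ x : ℂ) * conj (ψ (x : G)) =
          (Fintype.card (V →* ℂˣ) : ℂ) * conj (ψ (y : G)) := by
        simp only [Finset.mul_sum]
        rw [Finset.sum_comm, Finset.sum_eq_single y]
        · rw [Finset.sum_congr rfl (g := fun _ => conj (ψ (y : G))) fun μ _ => by
            rw [← mul_assoc, ← Units.val_mul, ← map_mul, inv_mul_cancel, map_one, Units.val_one, one_mul],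
            Finset.sum_const, Finset.card_univ, nsmul_eq_mul]
        · intro x _ hxy
          rw [Finset.sum_congr rfl (g := fun μ : V →* ℂˣ => (μ (y⁻¹ * x) : ℂ) * conj (ψ (x : G))) fun μ _ => by
            rw [map_mul, Units.val_mul, mul_assoc], ← Finset.sum_mul]
          obtain ⟨μ₀, h0⟩ := hsep (y⁻¹ * x) (fun e => hxy (inv_mul_eq_one.1 e).symm)
          rw [lin_sum_eq_zero μ₀ h0, zero_mul]
        · exact fun hh => absurd (Finset.mem_univ y) hh
      obtain ⟨μ₀, h0⟩ := hsep y⁻¹ (inv_ne_one.2 hy)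
      rw [Finset.sum_congr rfl fun μ _ => by rw [hfour μ], ← Finset.sum_mul, lin_sum_eq_zero μ₀ h0, zero_mul] at e1
      have := (mul_eq_zero.1 e1.symm).resolve_left (by exact_mod_cast Fintype.card_ne_zero)
      simpa using this
    have hXv : ∀ i (y : V), y ≠ 1 → X i (y : G) = (M : ℂ) + Sf V (rep i) y := fun i y hy => by
      have e0 := hψv y hy
      simp only [hψ, hI, Pi.sub_apply, Pi.add_apply, Pi.smul_apply, smul_eq_mul, mul_one] at e0
      push_cast at e0
      have e1 := hval i o₀ y hy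
      have e2 := h.Sf_eq (rep o₀) hy
      linear_combination e1 + e0 - e2
    have hM0 : M = 0 := by
      have hRX0 : ∀ i, iq (R V (rep o₀)) (X i) = M - if i = o₀ then 1 else 0 := fun i => by
        have e1 : iq (R V (rep o₀)) (X i - X o₀) = 1 - if i = o₀ then 1 else 0 := by
          rw [← hdiff o₀ i, iq_sub_right (gR o₀) (gR o₀) (gR i), nR, nR, if_pos rfl]
          by_cases ei : i = o₀
          · rw [if_pos ei, if_pos ei.symm]; ring
          · rw [if_neg ei, if_neg (Ne.symm ei)]; ring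
        rw [iq_sub_right (gR o₀) (sX i).gen (sX o₀).gen] at e1
        omega
      have hXI : ∀ i, iq I (X i) = 0 := by
        have hsame : ∀ i, iq (X i) I = iq (X o₀) I := fun i => by
          have e1 : iq (R V (rep i) - R V (rep o₀)) I = 0 := by
            rw [iq_sub_left (gR i) (gR o₀) sI.gen, hI, nRI, nRI, sub_self]
          rw [hdiff, iq_sub_left (sX o₀).gen (sX i).gen sI.gen] at e1
          omega
        intro i
        rw [iq_comm sI.gen (sX i).gen]
        obtain ⟨k, hk⟩ : ∃ k, k ≠ i := by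
          exact Fintype.exists_ne_of_one_lt_card (by omega) i
        have hik := oX i k (Ne.symm hk)
        rcases (sX i).iq_cases sI with e | ⟨e, ei⟩ | ⟨e, ei⟩
        · exact e
        all_goals
          exfalso
          rw [ei] at hik
          have e2 := (hsame k).trans (hsame i).symm
          rw [e, iq_comm (sX k).gen sI.gen] at e2
        · omega
        · rw [iq_neg_left sI.gen (sX k).gen] at hik; omega
      have hb := Orth.bessel (l := I :: (Finset.univ : Finset O).toList.map X)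
        ⟨by simp [sI, sX], List.pairwise_cons.2 ⟨by simp [hXI],
          List.pairwise_map.2 ((Finset.nodup_toList _).imp fun hh => oX _ _ hh)⟩⟩ (gR o₀)
      simp only [List.map_cons, List.map_map, List.sum_cons, Function.comp_def, Finset.sum_map_toList, hRX0] at hb
      rw [show iq (R V (rep o₀)) I = 1 from nRI o₀, nR, if_pos rfl, one_pow] at hb
      have hle : ∑ i ∈ Finset.univ.erase o₀, (M - if i = o₀ then 1 else 0) ^ 2 ≤
          ∑ i : O, (M - if i = o₀ then 1 else 0) ^ 2 :=
        Finset.sum_le_sum_of_subset_of_nonneg (Finset.subset_univ _) fun _ _ _ => sq_nonneg _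
      rw [Finset.sum_congr rfl (g := fun _ => M ^ 2) fun i hi => by
        rw [if_neg (Finset.ne_of_mem_erase hi), sub_zero], Finset.sum_const,
        Finset.card_erase_of_mem (Finset.mem_univ _), Finset.card_univ, nsmul_eq_mul] at hle
      by_contra hMne
      have hM2 : 1 ≤ M ^ 2 := by
        have := mul_self_pos.2 hMne
        rw [pow_two]; omega
      have h6 := le_mul_of_one_le_right (Int.natCast_nonneg (Fintype.card O - 1)) hM2
      omega
    obtain ⟨a, ha⟩ : ∃ a : V, a ≠ 1 := by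
      obtain ⟨c, hc'⟩ : ∃ c, rep o₀ c ≠ 1 := by
        by_contra hc'
        push Not at hc'
        exact hne o₀ (MonoidHom.ext hc')
      exact ⟨c, fun e => hc' (by rw [e, map_one])⟩
    have hAq : Nat.card (V →* ℂˣ) ≤ Nat.card V := by
      rw [Nat.card_congr (linearCharEquiv (G := V)), card_linear]
      exact Nat.le_of_dvd Nat.card_pos (Subgroup.index_dvd_card _)
    obtain ⟨b, hb1, hab, hab'⟩ : ∃ b : V, b ≠ 1 ∧ ¬ IsConj (a : G) (b : G) ∧
        ¬ IsConj ((a⁻¹ : V) : G) (b : G) := by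
      by_contra hcon
      push Not at hcon
      have hsub : (Finset.univ : Finset V) ⊆ insert 1
          ((Finset.univ.filter fun y : V => IsConj (a : G) (y : G)) ∪
            (Finset.univ.filter fun y : V => IsConj ((a⁻¹ : V) : G) (y : G))) := by
        intro y _
        simp only [Finset.mem_insert, Finset.mem_union, Finset.mem_filter, Finset.mem_univ, true_and]
        by_cases h1 : y = 1
        · exact Or.inl h1
        by_cases h2' : IsConj (a : G) (y : G)
        · exact Or.inr (Or.inl h2')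
        exact Or.inr (Or.inr (hcon y h1 h2'))
      have hle := (Finset.card_le_card hsub).trans ((Finset.card_insert_le _ _).trans
        (Nat.add_le_add_right (Finset.card_union_le _ _) 1))
      rw [← Fintype.card_subtype, ← Fintype.card_subtype, ← Nat.card_eq_fintype_card, ← Nat.card_eq_fintype_card,
        h.card_conj ha (hc a ha), h.card_conj (inv_ne_one.2 ha) (hc _ (inv_ne_one.2 ha)), Finset.card_univ,
        ← Nat.card_eq_fintype_card] at hle
      omega
    obtain ⟨i, j, hij⟩ : ∃ i j, Sf V (rep i) a * Sf V (rep i) b ≠ Sf V (rep j) a * Sf V (rep j) b := by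
      by_contra hall'
      push Not at hall'
      have hsum : ∑ μ : V →* ℂˣ, Sf V μ a * Sf V μ b = 0 := by
        simp only [Sf, finsum_eq_sum_of_fintype, Finset.mul_sum, Finset.sum_mul]
        rw [Finset.sum_comm]
        refine Finset.sum_eq_zero fun m _ => ?_
        rw [Finset.sum_comm]
        refine Finset.sum_eq_zero fun l _ => ?_
        rw [Finset.sum_congr rfl (g := fun μ : V →* ℂˣ => ((Nat.card V : ℂ)⁻¹ * (Nat.card V : ℂ)⁻¹) *
          (μ (cj V l a * cj V m b) : ℂ)) fun μ _ => by rw [map_mul, Units.val_mul]; ring, ← Finset.mul_sum]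
        obtain ⟨μ₀, h0⟩ := hsep (cj V l a * cj V m b) (fun e => hab' (by
          have e1 : cj V m b = cj V l a⁻¹ := by rw [map_inv]; exact eq_inv_of_mul_eq_one_right e
          refine (isConj_iff.2 ⟨(l : G), ?_⟩ : IsConj ((a⁻¹ : V) : G) (cj V m b : G)).trans
            (isConj_iff.2 ⟨(m : G), (cj_coe V m b).symm⟩ : IsConj (b : G) (cj V m b : G)).symm
          rw [← cj_coe, e1]))
        rw [lin_sum_eq_zero μ₀ h0, mul_zero]
      rw [hconst (fun μ => Sf V μ a * Sf V μ b) (Sf V (rep o₀) a * Sf V (rep o₀) b) fun μ hμ => by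
        obtain ⟨o, ho⟩ := hSinv μ hμ
        rw [ho a ha, ho b hb1, hall' o o₀]] at hsum
      beta_reduce at hsum
      rw [Sf_of_fixed 1 a fun _ => rfl, Sf_of_fixed 1 b fun _ => rfl] at hsum
      obtain ⟨k, hk⟩ := int_of_rat ((h.Sf_isIntegral (rep o₀) ha).mul (h.Sf_isIntegral (rep o₀) hb1))
        (a := -((ix V : ℤ) * ix V)) (b := ((Nat.card (V →* ℂˣ) - 1 : ℕ) : ℤ)) (by omega)
        (by push_cast; linear_combination hsum)
      rw [hk] at hsum
      have e : (ix V : ℤ) * ix V + ((Nat.card (V →* ℂˣ) - 1 : ℕ) : ℤ) * k = 0 := by exact_mod_cast hsum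
      have : ((Nat.card (V →* ℂˣ) - 1 : ℕ) : ℤ) ∣ ((ix V * ix V : ℕ) : ℤ) :=
        ⟨-k, by push_cast; linear_combination e⟩
      have h7 := Nat.le_of_dvd (Nat.mul_pos he he) (Int.natCast_dvd_natCast.1 this)
      rw [mul_add] at h2
      omega
    have e := hE a b ha (hcom a) hb1 hab (hc a ha) i j
    rw [hXv i a ha, hXv j a ha, hXv i b hb1, hXv j b hb1, hM0, Int.cast_zero, zero_add, zero_add, zero_add,
      zero_add] at e
    have eg : (Nat.card G : ℂ) = (Nat.card V : ℂ) * (n : ℂ) := by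
      field_simp at e
      linear_combination e
    have eg' : (Nat.card G : ℤ) = (Nat.card V : ℤ) * n := by exact_mod_cast eg
    refine (le_sq_of hGpos (k := 1) (n := n) one_ne_zero (by rw [one_mul]; exact eg') hdeg
      (Int.natCast_nonneg _)).trans ?_
    exact pow_le_pow_left₀ (Int.natCast_nonneg _)
      (le_mul_of_one_le_right (Int.natCast_nonneg _) (by exact_mod_cast he)) 2

/-- The subgroup is normal. -/
theorem T3.normal (h : T3 V) (hco : ¬ 3 ∣ ix V) (h5 : 5 * ix V < Nat.card (V →* ℂˣ))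
    (h2 : ix V * (ix V + 2) < Nat.card (V →* ℂˣ)) : V.Normal := by
  have hle := h.card_le hco h5 h2
  have he := ix_pos (G := G) V
  have hmul := (Subgroup.normalizer (V : Set G)).card_mul_index
  rw [card_normalizer] at hmul
  set i := (Subgroup.normalizer (V : Set G)).index with hi
  have hi' : i ≤ Nat.card V := Nat.le_of_mul_le_mul_left
    (show ix V * Nat.card V * i ≤ ix V * Nat.card V * Nat.card V by rw [hmul]; exact hle.trans (by rw [pow_two, mul_assoc]))
    (Nat.mul_pos he Nat.card_pos)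
  have hmod := h.index_mod
  rw [← hi] at hmod
  haveI : Finite (V →* ℂˣ) := Finite.of_equiv _ (linearCharEquiv (G := V)).symm
  have hAq : Nat.card (V →* ℂˣ) ≤ Nat.card V := by
    rw [Nat.card_congr (linearCharEquiv (G := V)), card_linear]
    exact Nat.le_of_dvd Nat.card_pos (Subgroup.index_dvd_card _)
  have h1 : 1 < Nat.card V := by omega
  rw [Nat.one_mod_eq_one.2 h1.ne'] at hmod
  have hi1 : i = 1 := by
    rcases hi'.lt_or_eq with hlt | heq
    · rwa [Nat.mod_eq_of_lt hlt] at hmod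
    · rw [heq, Nat.mod_self] at hmod; omega
  exact Subgroup.normalizer_eq_top_iff.1 (Subgroup.index_eq_one.1 hi1)

end CfsgLib.Char.ThreeTI
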