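import Cfsg.Agent.Lib.Char.ThreeTI.Setup
import Mathlib.GroupTheory.Perm.Cycle.Type

/-!
# Norms of the induced functions and the class-algebra functional
-/

set_option autoImplicit false
set_option linter.unusedSectionVars false

namespace CfsgLib.Char.ThreeTI

open scoped ComplexConjugate
open Cfsg CfsgLib.Char CfsgLib.Char.Signed

universe u

variable {G : Type u} [Group G] {V : Subgroup G}

theorem cj_mul (n m : Subgroup.normalizer (V : Set G)) (x : V) : cj V (n * m) x = cj V n (cj V m x) := by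
  simp only [cj, map_mul, MulAut.mul_apply]

theorem conjHom_ne_one {μ : V →* ℂˣ} (hμ : μ ≠ 1) (n : Subgroup.normalizer (V : Set G)) :
    conjHom V μ n ≠ 1 := fun e => hμ (MonoidHom.ext fun x => by
  obtain ⟨y, rfl⟩ := (cj V n).surjective x
  exact DFunLike.congr_fun e y)

/-- Conjugacy of linear characters under the normalizer. -/
def Rel (V : Subgroup G) (lam μ : V →* ℂˣ) : Prop :=
  ∃ n : Subgroup.normalizer (V : Set G), conjHom V μ n = lam

theorem Rel.refl (μ : V →* ℂˣ) : Rel V μ μ := ⟨1, conjHom_one μ⟩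

theorem Rel.symm {lam μ : V →* ℂˣ} (h : Rel V lam μ) : Rel V μ lam := by
  obtain ⟨n, rfl⟩ := h
  exact ⟨n⁻¹, by rw [conjHom_mul, mul_inv_cancel, conjHom_one]⟩

theorem Rel.trans {lam μ ν : V →* ℂˣ} (h : Rel V lam μ) (h' : Rel V μ ν) : Rel V lam ν := by
  obtain ⟨n, rfl⟩ := h
  obtain ⟨m, rfl⟩ := h'
  exact ⟨m * n, (conjHom_mul ν m n).symm⟩

/-- The stabilizer of a linear character. -/
def stab (V : Subgroup G) (μ : V →* ℂˣ) : Subgroup (Subgroup.normalizer (V : Set G)) where
  carrier := {n | conjHom V μ n = μ}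
  one_mem' := conjHom_one μ
  mul_mem' := fun {a b} ha hb => by
    show conjHom V μ (a * b) = μ
    rw [← conjHom_mul, show conjHom V μ a = μ from ha, show conjHom V μ b = μ from hb]
  inv_mem' := fun {a} ha => by
    show conjHom V μ a⁻¹ = μ
    conv_lhs => rw [← show conjHom V μ a = μ from ha]
    rw [conjHom_mul, mul_inv_cancel, conjHom_one]

variable [Finite G]

/-- The stabilizer of a non-trivial linear character is the subgroup itself. -/
theorem T3.stab_eq (h : T3 V) (hco : ¬ 3 ∣ (V.subgroupOf (Subgroup.normalizer (V : Set G))).index)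
    {μ : V →* ℂˣ} (hμ : μ ≠ 1) :
    stab V μ = V.subgroupOf (Subgroup.normalizer (V : Set G)) := by
  classical
  haveI : Fact (Nat.Prime 3) := ⟨Nat.prime_three⟩
  set N := Subgroup.normalizer (V : Set G) with hN
  have hV3 : IsPGroup 3 V := fun x => ⟨1, Subtype.ext (by rw [pow_one]; exact h.exp x x.2)⟩
  have hle : V.subgroupOf N ≤ stab V μ := by
    intro n hn
    refine MonoidHom.ext fun x => ?_
    rw [conjHom_apply, show cj V n x = ⟨(n : G), hn⟩ * x * (⟨(n : G), hn⟩ : V)⁻¹ from Subtype.ext rfl,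
      map_mul, map_mul, map_inv, mul_comm (μ _), mul_inv_cancel_right]
  refine le_antisymm ?_ hle
  rw [← Subgroup.relIndex_eq_one]
  by_contra hne
  obtain ⟨l, hl, hld⟩ := Nat.exists_prime_and_dvd hne
  have hl3 : l ≠ 3 := by
    rintro rfl
    exact hco (hld.trans (Subgroup.relIndex_dvd_index_of_le hle))
  haveI : Fact l.Prime := ⟨hl⟩
  have hlc : l ∣ Nat.card (stab V μ) := by
    rw [← Subgroup.card_mul_index ((V.subgroupOf N).subgroupOf (stab V μ))]
    exact Dvd.dvd.mul_left hld _
  obtain ⟨n, hn⟩ := exists_prime_orderOf_dvd_card' l hlc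
  obtain ⟨c, hc⟩ : ∃ c, μ c ≠ 1 := by
    by_contra hc
    push Not at hc
    exact hμ (MonoidHom.ext hc)
  let X := {x : V // μ x = μ c}
  letI : MulAction (Subgroup.zpowers n) X :=
    { smul := fun m x => ⟨cj V (m : stab V μ) x.1,
        (DFunLike.congr_fun (m : stab V μ).2 x.1).trans x.2⟩
      one_smul := fun x => Subtype.ext (by
        show cj V (((1 : Subgroup.zpowers n) : stab V μ) : N) x.1 = x.1
        simp [cj])
      mul_smul := fun m m' x => Subtype.ext (cj_mul _ _ _) }
  have hP : IsPGroup l (Subgroup.zpowers n) :=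
    IsPGroup.of_card (n := 1) (by rw [Nat.card_zpowers, hn, pow_one])
  have hX : Nat.card X = Nat.card μ.ker := Nat.card_congr
    { toFun := fun x => ⟨c⁻¹ * x.1, by rw [MonoidHom.mem_ker, map_mul, map_inv, x.2, inv_mul_cancel]⟩
      invFun := fun k => ⟨c * k.1, by rw [map_mul, MonoidHom.mem_ker.1 k.2, mul_one]⟩
      left_inv := fun x => Subtype.ext (mul_inv_cancel_left _ _)
      right_inv := fun k => Subtype.ext (inv_mul_cancel_left _ _) }
  have hnd : ¬ l ∣ Nat.card X := by
    obtain ⟨i, hi⟩ := IsPGroup.iff_card.1 (hV3.to_subgroup μ.ker)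
    rw [hX, hi]
    exact fun hd => hl3 ((Nat.prime_dvd_prime_iff_eq hl Nat.prime_three).1 (hl.dvd_of_dvd_pow hd))
  obtain ⟨x, hx⟩ := hP.nonempty_fixed_point_of_prime_not_dvd_card X hnd
  have hx' : cj V (n : N) x.1 = x.1 := congrArg Subtype.val (hx ⟨n, Subgroup.mem_zpowers n⟩)
  have hx1 : (x.1 : G) ≠ 1 := fun e => hc (by rw [← x.2, show x.1 = 1 from Subtype.ext e, map_one])
  have hnV : ((n : N) : G) ∈ V := by
    refine h.cent _ x.1.2 hx1 (Subgroup.mem_centralizer_singleton_iff.2 ?_)
    have e := congrArg Subtype.val hx'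
    rw [cj_coe] at e
    exact mul_inv_eq_iff_eq_mul.1 e
  have h3 : n ^ 3 = 1 := Subtype.ext (Subtype.ext (h.exp _ hnV))
  have := orderOf_dvd_of_pow_eq_one h3
  rw [hn] at this
  exact hl3 ((Nat.prime_dvd_prime_iff_eq hl Nat.prime_three).1 this)

/-- The number of conjugating elements. -/
theorem T3.card_fibre (h : T3 V) (hco : ¬ 3 ∣ (V.subgroupOf (Subgroup.normalizer (V : Set G))).index)
    {μ : V →* ℂˣ} (hμ : μ ≠ 1) {lam : V →* ℂˣ} (hr : Rel V lam μ) :
    Nat.card {n : Subgroup.normalizer (V : Set G) // conjHom V μ n = lam} = Nat.card V := by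
  obtain ⟨n₀, rfl⟩ := hr
  rw [← Nat.card_congr (Subgroup.subgroupOfEquivOfLe (Subgroup.le_normalizer (H := V))).toEquiv,
    ← h.stab_eq hco hμ]
  exact Nat.card_congr
    { toFun := fun n => ⟨n.1 * n₀⁻¹, by
        show conjHom V μ (n.1 * n₀⁻¹) = μ
        rw [← conjHom_mul, n.2, conjHom_mul, mul_inv_cancel, conjHom_one]⟩
      invFun := fun s => ⟨s.1 * n₀, by rw [← conjHom_mul, show conjHom V μ s.1 = μ from s.2]⟩
      left_inv := fun n => Subtype.ext (inv_mul_cancel_right _ _)
      right_inv := fun s => Subtype.ext (mul_inv_cancel_right _ _) }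

/-- The index. -/
noncomputable def ix (V : Subgroup G) : ℕ := (V.subgroupOf (Subgroup.normalizer (V : Set G))).index

theorem card_normalizer (V : Subgroup G) :
    Nat.card (Subgroup.normalizer (V : Set G)) = ix V * Nat.card V := by
  rw [ix, ← Nat.card_congr (Subgroup.subgroupOfEquivOfLe (Subgroup.le_normalizer (H := V))).toEquiv, mul_comm,
    Subgroup.card_mul_index]

section Fin

variable [Fintype G]

theorem lin_orth (lam μ : V →* ℂˣ) [Decidable (lam = μ)] [Fintype V] :
    ∑ x : V, (lam x : ℂ) * conj (μ x : ℂ) = if lam = μ then (Nat.card V : ℂ) else 0 := by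
  classical
  have h := classInner_irr (⟨_, isIrrCharacter_lin lam⟩ : IrrCharacter V) ⟨_, isIrrCharacter_lin μ⟩
  simp only [classInner] at h
  have hq : (Nat.card V : ℂ) ≠ 0 := by exact_mod_cast Nat.card_pos.ne'
  have hiff : ((⟨_, isIrrCharacter_lin lam⟩ : IrrCharacter V) = ⟨_, isIrrCharacter_lin μ⟩) ↔ lam = μ :=
    ⟨fun e => MonoidHom.ext fun x => Units.ext (congrFun (congrArg Subtype.val e) x), fun e => by subst e; rfl⟩
  have h' : ∑ x : V, (lam x : ℂ) * conj (μ x : ℂ) =
      (Nat.card V : ℂ) * if lam = μ then 1 else 0 := by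
    rw [← inv_mul_eq_iff_eq_mul₀ hq, h]
    by_cases e : lam = μ
    · rw [if_pos (hiff.2 e), if_pos e]
    · rw [if_neg (mt hiff.1 e), if_neg e]
  rw [h', mul_ite, mul_one, mul_zero]

theorem T3.inner_R (h : T3 V) (hco : ¬ 3 ∣ ix V) {lam μ : V →* ℂˣ} (hl : lam ≠ 1) (hm : μ ≠ 1)
    [Decidable (Rel V lam μ)] :
    classInner (R V lam) (R V μ) = (ix V : ℂ) + if Rel V lam μ then 1 else 0 := by
  classical
  haveI := Fintype.ofFinite V
  haveI := Fintype.ofFinite (Subgroup.normalizer (V : Set G))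
  have hq : (Nat.card V : ℂ) ≠ 0 := by exact_mod_cast Nat.card_pos.ne'
  rw [R, classInner_indFun V _ _ (isClassFunction_of_isGeneralized (R_gen μ)), classInner]
  have hterm : ∀ x : V, (1 - (lam x : ℂ)) * conj (R V μ (x : G)) = (Nat.card V : ℂ)⁻¹ *
      ∑ n : Subgroup.normalizer (V : Set G), (1 - (lam x : ℂ)) * (1 - conj (conjHom V μ n x : ℂ)) := by
    intro x
    by_cases hx : x = 1
    · subst hx; simp
    · rw [R, h.indFun_el _ hx, map_mul, map_inv₀, Complex.conj_natCast, finsum_eq_sum_of_fintype, map_sum,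
        Finset.mul_sum, Finset.mul_sum, Finset.mul_sum]
      refine Finset.sum_congr rfl fun n _ => ?_
      rw [map_sub, map_one, conjHom_apply]
      ring
  rw [Finset.sum_congr rfl fun x _ => hterm x, ← Finset.mul_sum, Finset.sum_comm,
    Finset.sum_congr rfl (g := fun n => (Nat.card V : ℂ) *
      (1 + if conjHom V μ n = lam then 1 else 0)) fun n _ => ?_]
  · rw [← Finset.mul_sum, Finset.sum_add_distrib, Finset.sum_const, Finset.card_univ, nsmul_eq_mul, mul_one,
      Finset.sum_boole, ← Fintype.card_subtype, ← Nat.card_eq_fintype_card, ← Nat.card_eq_fintype_card,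
      card_normalizer, ← mul_assoc, ← mul_assoc]
    by_cases hr : Rel V lam μ
    · rw [h.card_fibre hco hm hr, if_pos hr]
      push_cast
      field_simp
    · rw [if_neg hr, show Nat.card {n // conjHom V μ n = lam} = 0 from
        Nat.card_eq_zero.2 (Or.inl ⟨fun n => hr ⟨n.1, n.2⟩⟩)]
      push_cast
      field_simp
      ring
  · have hc := conjHom_ne_one hm n
    have e1 : ∑ x : V, conj (conjHom V μ n x : ℂ) = 0 := by
      have := lin_orth (1 : V →* ℂˣ) (conjHom V μ n)
      simpa [Ne.symm hc] using this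
    have e2 : ∑ x : V, (lam x : ℂ) = 0 := by
      have := lin_orth lam (1 : V →* ℂˣ)
      simpa [hl] using this
    rw [Finset.sum_congr rfl (g := fun x : V => (1 : ℂ) - conj (conjHom V μ n x : ℂ) - (lam x : ℂ) +
      (lam x : ℂ) * conj (conjHom V μ n x : ℂ)) fun x _ => by ring, Finset.sum_add_distrib,
      Finset.sum_sub_distrib, Finset.sum_sub_distrib, e1, e2, lin_orth, Finset.sum_const, Finset.card_univ,
      nsmul_eq_mul, mul_one, ← Nat.card_eq_fintype_card]
    by_cases he : conjHom V μ n = lam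
    · rw [if_pos he, if_pos he.symm]; ring
    · rw [if_neg he, if_neg (Ne.symm he)]; ring

/-- The sum of a linear character over the conjugates of an element in the subgroup. -/
theorem T3.class_sum (h : T3 V) (μ : V →* ℂˣ) {x : V} (hx : x ≠ 1) :
    (Nat.card (Subgroup.centralizer ({(x : G)} : Set G)) : ℂ) *
      ∑ᶠ y : {y : V // IsConj (x : G) (y : G)}, (μ y.1 : ℂ) = (Nat.card V : ℂ) * Sf V μ x := by
  classical
  haveI := Fintype.ofFinite V
  haveI := Fintype.ofFinite (Subgroup.normalizer (V : Set G))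
  set N := Subgroup.normalizer (V : Set G) with hN
  have hq : (Nat.card V : ℂ) ≠ 0 := by exact_mod_cast Nat.card_pos.ne'
  rw [Sf, ← mul_assoc, mul_inv_cancel₀ hq, one_mul, finsum_eq_sum_of_fintype, finsum_eq_sum_of_fintype]
  let π : N → {y : V // IsConj (x : G) (y : G)} := fun n =>
    ⟨cj V n x, isConj_iff.2 ⟨(n : G), (cj_coe V n x).symm⟩⟩
  rw [← Finset.sum_fiberwise Finset.univ π (fun n => (μ (cj V n x) : ℂ)), Finset.mul_sum]
  refine Finset.sum_congr rfl fun y _ => ?_
  rw [Finset.sum_congr rfl (g := fun _ => (μ y.1 : ℂ)) fun n hn => by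
    have e := congrArg Subtype.val (Finset.mem_filter.1 hn).2
    rw [show cj V n x = y.1 from e], Finset.sum_const, nsmul_eq_mul]
  congr 1
  norm_cast
  obtain ⟨g, hg⟩ := isConj_iff.1 y.2
  have hgN : g ∈ N := h.ti g x x.2 (fun e => hx (Subtype.ext e)) (hg ▸ y.1.2)
  rw [← Fintype.card_subtype, ← Nat.card_eq_fintype_card]
  refine Nat.card_congr
    { toFun := fun s => ⟨⟨g * s.1, N.mul_mem hgN (Subgroup.le_normalizer
        (h.cent _ x.2 (fun e => hx (Subtype.ext e)) s.2))⟩, Subtype.ext (Subtype.ext (by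
          show g * (s.1 : G) * (x : G) * (g * s.1)⁻¹ = (y.1 : G)
          rw [show g * (s.1 : G) * (x : G) = g * ((s.1 : G) * (x : G)) by group,
            Subgroup.mem_centralizer_singleton_iff.1 s.2, ← hg]
          group))⟩
      invFun := fun n => ⟨g⁻¹ * (n.1 : G), Subgroup.mem_centralizer_singleton_iff.2 (by
        have e := congrArg (fun z : {y : V // IsConj (x : G) (y : G)} => ((z.1 : V) : G)) n.2
        simp only [π, cj_coe] at e
        rw [← hg] at e
        calc g⁻¹ * (n.1 : G) * x = g⁻¹ * ((n.1 : G) * x * (n.1 : G)⁻¹) * (n.1 : G) := by group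
          _ = g⁻¹ * (g * x * g⁻¹) * (n.1 : G) := by rw [e]
          _ = x * (g⁻¹ * (n.1 : G)) := by group)⟩
      left_inv := fun s => Subtype.ext (inv_mul_cancel_left _ _)
      right_inv := fun n => Subtype.ext (Subtype.ext (mul_inv_cancel_left _ _)) }

/-- The class-algebra functional on a difference of two induced functions. -/
theorem T3.lfun_diff (h : T3 V) {a b : V} (ha : a ≠ 1) (hz : ∀ v : V, a * v = v * a) (hb : b ≠ 1)
    (hab : ¬ IsConj (a : G) (b : G)) (hVc : Subgroup.centralizer ({(a : G)} : Set G) = V)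
    (lam μ : V →* ℂˣ) :
    NineKlein.KHyp.lfun (a : G) (b : G) (R V lam - R V μ) = (Nat.card V : ℂ) / (Nat.card G : ℂ) *
      (Sf V μ a * Sf V μ b - Sf V lam a * Sf V lam b) := by
  classical
  haveI := Fintype.ofFinite V
  haveI := Fintype.ofFinite (IrrCharacter G)
  set F : G → ℂ := fun x => (classConst (a : G) (b : G) x : ℂ) with hF
  have hFc : IsClassFunction G F := by
    intro g k
    simp only [hF]
    rw [classConst_conj]
  set Ca : ℂ := (Nat.card (Subgroup.centralizer ({(a : G)} : Set G)) : ℂ) with hCa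
  set Cb : ℂ := (Nat.card (Subgroup.centralizer ({(b : G)} : Set G)) : ℂ) with hCb
  have hq : (Nat.card V : ℂ) ≠ 0 := by exact_mod_cast Nat.card_pos.ne'
  have hG := card_ne_zero' (G := G)
  have hCa0 : Ca ≠ 0 := by simp only [hCa]; exact_mod_cast Nat.card_pos.ne'
  have hCb0 : Cb ≠ 0 := by simp only [hCb]; exact_mod_cast Nat.card_pos.ne'
  have hka : (Nat.card {x : G // IsConj (a : G) x} : ℂ) = (Nat.card G : ℂ) / Ca := by
    rw [eq_div_iff hCa0, card_isConj, hCa, ← Nat.cast_mul, Subgroup.index_mul_card]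
  have hkb : (Nat.card {x : G // IsConj (b : G) x} : ℂ) = (Nat.card G : ℂ) / Cb := by
    rw [eq_div_iff hCb0, card_isConj, hCb, ← Nat.cast_mul, Subgroup.index_mul_card]
  have h1 : classInner (R V lam - R V μ) F = (Nat.card G : ℂ) / (Ca * Cb) *
      NineKlein.KHyp.lfun (a : G) (b : G) (R V lam - R V μ) := by
    have hFre : ∀ x, conj (F x) = F x := fun x => map_natCast _ _
    simp only [classInner, hFre]
    simp only [hF, classConst_formula, hka, hkb, NineKlein.KHyp.lfun, finsum_eq_sum_of_fintype, classInner,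
      Finset.mul_sum, Finset.sum_mul, Finset.sum_div]
    rw [Finset.sum_comm]
    refine Finset.sum_congr rfl fun χ _ => Finset.sum_congr rfl fun x _ => ?_
    field_simp
  set D : V → ℂ := fun x => (μ x : ℂ) - (lam x : ℂ) with hD
  have hRD : R V lam - R V μ = indFun V D := by
    rw [R, R, ← indFun_sub]
    congr 1
    funext x
    simp [hD]
  have hsum : ∀ ν : V →* ℂˣ, ∑ p : {y : V // IsConj (a : G) (y : G)} × {y : V // IsConj (b : G) (y : G)},
      (ν (p.1.1 * p.2.1) : ℂ) = ((Nat.card V : ℂ) / Ca * Sf V ν a) * ((Nat.card V : ℂ) / Cb * Sf V ν b) := by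
    intro ν
    have ea := h.class_sum ν ha
    have eb := h.class_sum ν hb
    rw [finsum_eq_sum_of_fintype, ← hCa] at ea
    rw [finsum_eq_sum_of_fintype, ← hCb] at eb
    have ea' : (Nat.card V : ℂ) / Ca * Sf V ν a = ∑ y : {y : V // IsConj (a : G) (y : G)}, (ν y.1 : ℂ) := by
      rw [div_mul_eq_mul_div, ← ea, mul_div_cancel_left₀ _ hCa0]
    have eb' : (Nat.card V : ℂ) / Cb * Sf V ν b = ∑ y : {y : V // IsConj (b : G) (y : G)}, (ν y.1 : ℂ) := by
      rw [div_mul_eq_mul_div, ← eb, mul_div_cancel_left₀ _ hCb0]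
    rw [ea', eb', Finset.sum_mul_sum, Fintype.sum_prod_type]
    exact Finset.sum_congr rfl fun y _ => Finset.sum_congr rfl fun z _ => by rw [map_mul, Units.val_mul]
  have h2 : classInner (R V lam - R V μ) F = (Nat.card V : ℂ)⁻¹ *
      (((Nat.card V : ℂ) / Ca * Sf V μ a) * ((Nat.card V : ℂ) / Cb * Sf V μ b) -
        ((Nat.card V : ℂ) / Ca * Sf V lam a) * ((Nat.card V : ℂ) / Cb * Sf V lam b)) := by
    rw [hRD, classInner_indFun V D F hFc, classInner]
    congr 1
    rw [← hsum μ, ← hsum lam, ← Finset.sum_sub_distrib, ← Finset.sum_fiberwise Finset.univ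
      (fun p : {y : V // IsConj (a : G) (y : G)} × {y : V // IsConj (b : G) (y : G)} => p.1.1 * p.2.1)]
    refine Finset.sum_congr rfl fun x _ => ?_
    rw [Finset.sum_congr rfl (g := fun _ => D x) fun p hp => by
        simp only [hD, (Finset.mem_filter.1 hp).2],
      Finset.sum_const, nsmul_eq_mul, show conj (F (x : G)) = F (x : G) from map_natCast _ _, mul_comm (D x)]
    by_cases hx : x = 1
    · simp [hD, hx]
    congr 1
    simp only [hF]
    rw [← Fintype.card_subtype, ← Nat.card_eq_fintype_card, classConst]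
    norm_cast
    have hloc := fun (y z : G) (hy : IsConj (a : G) y) (hzz : IsConj (b : G) z) (e : y * z = (x : G)) =>
      h.local_pairs a.2 (fun e1 => ha (Subtype.ext e1))
        (fun v hv => congrArg Subtype.val (hz ⟨v, hv⟩)) b.2 hab x.2 (fun e1 => hx (Subtype.ext e1)) hy hzz e
    exact Nat.card_congr
      { toFun := fun p => ⟨(⟨⟨p.1.1, (hloc _ _ p.2.1 p.2.2.1 p.2.2.2).1⟩, p.2.1⟩,
          ⟨⟨p.1.2, (hloc _ _ p.2.1 p.2.2.1 p.2.2.2).2⟩, p.2.2.1⟩), Subtype.ext p.2.2.2⟩
        invFun := fun p => ⟨((p.1.1.1 : G), (p.1.2.1 : G)), p.1.1.2, p.1.2.2, congrArg Subtype.val p.2⟩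
        left_inv := fun p => rfl
        right_inv := fun p => rfl }
  rw [h1] at h2
  have hCa' : Ca = (Nat.card V : ℂ) := by rw [hCa, hVc]
  rw [hCa'] at h2
  field_simp at h2 ⊢
  linear_combination h2

end Fin

end CfsgLib.Char.ThreeTI
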