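import Cfsg.Agent.Lib.Char.NineKlein.Induced
import Cfsg.Agent.Lib.Char.Linear
import Mathlib.GroupTheory.GroupAction.Quotient

/-!
# Trivial intersection subgroups of exponent three containing the centralizers of their elements

Local products of two classes, and the class functions induced from linear characters.
-/

set_option autoImplicit false
set_option linter.unusedSectionVars false

namespace CfsgLib.Char.ThreeTI

open scoped ComplexConjugate
open Cfsg CfsgLib.Char CfsgLib.Char.Signed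

universe u

variable {G : Type u} [Group G]

/-- The hypothesis. -/
structure T3 (V : Subgroup G) : Prop where
  exp : ∀ a ∈ V, a ^ 3 = 1
  cent : ∀ x ∈ V, x ≠ 1 → Subgroup.centralizer ({x} : Set G) ≤ V
  ti : ∀ g x : G, x ∈ V → x ≠ 1 → g * x * g⁻¹ ∈ V → g ∈ Subgroup.normalizer (V : Set G)
  cube_mem : ∀ y ∈ Subgroup.normalizer (V : Set G), y ^ 3 = 1 → y ∈ V

variable {V : Subgroup G}

/-- The action of the normalizer. -/
noncomputable def cj (V : Subgroup G) (n : Subgroup.normalizer (V : Set G)) : MulAut V :=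
  Subgroup.normalizerMonoidHom V n

theorem cj_coe (V : Subgroup G) (n : Subgroup.normalizer (V : Set G)) (x : V) :
    (cj V n x : G) = (n : G) * x * (n : G)⁻¹ := rfl

/-- The conjugate of a linear character. -/
noncomputable def conjHom (V : Subgroup G) (μ : V →* ℂˣ) (n : Subgroup.normalizer (V : Set G)) : V →* ℂˣ :=
  μ.comp (cj V n).toMonoidHom

theorem conjHom_apply (μ : V →* ℂˣ) (n : Subgroup.normalizer (V : Set G)) (x : V) :
    conjHom V μ n x = μ (cj V n x) := rfl

theorem conjHom_mul (μ : V →* ℂˣ) (n m : Subgroup.normalizer (V : Set G)) :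
    conjHom V (conjHom V μ n) m = conjHom V μ (n * m) := by
  refine MonoidHom.ext fun x => ?_
  simp only [conjHom_apply, cj, map_mul, MulAut.mul_apply]

theorem conjHom_one (μ : V →* ℂˣ) : conjHom V μ 1 = μ := by
  refine MonoidHom.ext fun x => ?_
  simp [conjHom_apply, cj]

/-- The index of the normalizer is congruent to one modulo the order. -/
theorem T3.index_mod [Finite G] (h : T3 V) :
    (Subgroup.normalizer (V : Set G)).index % Nat.card V = 1 % Nat.card V := by
  classical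
  set N := Subgroup.normalizer (V : Set G) with hN
  let Y := {q : G ⧸ N // q ≠ ((1 : G) : G ⧸ N)}
  have hfixS : ∀ (s : V), (s : G) • ((1 : G) : G ⧸ N) = ((1 : G) : G ⧸ N) := fun s => by
    rw [MulAction.Quotient.smul_mk, QuotientGroup.eq, smul_eq_mul, mul_one, mul_one]
    exact N.inv_mem (Subgroup.le_normalizer s.2)
  letI : MulAction V Y :=
    { smul := fun s q => ⟨(s : G) • q.1, fun e => q.2 (smul_left_cancel (s : G) (e.trans (hfixS s).symm))⟩
      one_smul := fun q => Subtype.ext (one_smul G q.1)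
      mul_smul := fun s s' q => Subtype.ext (mul_smul (s : G) s' q.1) }
  have hfree : ∀ q : Y, MulAction.stabilizer V q = ⊥ := by
    intro q
    rw [Subgroup.eq_bot_iff_forall]
    intro s hs
    obtain ⟨k, hk⟩ := QuotientGroup.mk_surjective q.1
    have e : (s : G) • q.1 = q.1 := congrArg Subtype.val hs
    rw [← hk, MulAction.Quotient.smul_mk, QuotientGroup.eq, smul_eq_mul] at e
    by_contra hs1
    apply q.2
    rw [← hk, QuotientGroup.eq, mul_one]
    have hm : k⁻¹ * (s : G) * k ∈ N := by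
      have := N.inv_mem e
      rwa [mul_inv_rev, inv_inv, ← mul_assoc] at this
    have hS : k⁻¹ * (s : G) * k ∈ V := h.cube_mem _ hm (by
      rw [show k⁻¹ * (s : G) * k = k⁻¹ * (s : G) * k⁻¹⁻¹ by group, conj_pow, h.exp _ s.2]; group)
    exact h.ti k⁻¹ _ s.2 (fun e1 => hs1 (Subtype.ext e1)) (by simpa using hS)
  have hY := Nat.card_congr (MulAction.selfEquivOrbitsQuotientProd hfree)
  rw [Nat.card_prod] at hY
  haveI := Fintype.ofFinite (G ⧸ N)
  have hYc : Nat.card Y = N.index - 1 := by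
    rw [Subgroup.index_eq_card, Nat.card_eq_fintype_card, Fintype.card_subtype_compl,
      Fintype.card_subtype_eq, Nat.card_eq_fintype_card]
  have h1 : 1 ≤ N.index := Nat.pos_of_ne_zero Subgroup.index_ne_zero_of_finite
  rw [hYc] at hY
  rw [show N.index = 1 + Nat.card V * Nat.card (Quotient (MulAction.orbitRel V Y)) by
    rw [mul_comm, ← hY]; omega, Nat.add_mul_mod_self_left]

/-- An element of order three with product of order three with a central element commutes with it or
is conjugate to it. -/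
theorem T3.triple [Finite G] (h : T3 V) {x y : G} (hxV : x ∈ V) (hx1 : x ≠ 1)
    (hz : ∀ v ∈ V, x * v = v * x) (hy : y ^ 3 = 1) (hxy : (x * y) ^ 3 = 1) :
    x * y = y * x ∨ IsConj x y := by
  classical
  have hx : x ^ 3 = 1 := h.exp x hxV
  set u := x⁻¹ * y with hu
  set w₀ := y * x⁻¹ with hw₀
  have hxx : x⁻¹ * x⁻¹ = x := by
    calc x⁻¹ * x⁻¹ = x⁻¹ * x⁻¹ * x ^ 3 := by rw [hx, mul_one]
      _ = x := by rw [pow_succ, pow_two]; group
  have hyy : y * y = y⁻¹ := eq_inv_of_mul_eq_one_left (by rw [← pow_two, ← pow_succ, hy])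
  have hyxy : y * x * y = x⁻¹ * y⁻¹ * x⁻¹ := by
    have e : y * x * y = x⁻¹ * ((x * y) ^ 3) * (y⁻¹ * x⁻¹) := by
      rw [pow_succ, pow_two]; group
    rw [e, hxy]; group
  have huv : u * w₀ = w₀ * u := by
    calc u * w₀ = x⁻¹ * (y * y) * x⁻¹ := by rw [hu, hw₀]; group
      _ = y * x * y := by rw [hyy, hyxy]
      _ = y * (x⁻¹ * x⁻¹) * y := by rw [hxx]
      _ = w₀ * u := by rw [hu, hw₀]; group
  set A := Subgroup.closure ({u, w₀} : Set G) with hA
  haveI : IsMulCommutative A := Subgroup.isMulCommutative_closure (by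
    rintro p (rfl | rfl) q (rfl | rfl)
    · rfl
    · exact huv
    · exact huv.symm
    · rfl)
  have hAc : ∀ p ∈ A, ∀ q ∈ A, p * q = q * p := fun p hp q hq =>
    congrArg Subtype.val (mul_comm' (⟨p, hp⟩ : A) ⟨q, hq⟩)
  have hmu : u ∈ A := Subgroup.subset_closure (Or.inl rfl)
  have hmv : w₀ ∈ A := Subgroup.subset_closure (Or.inr rfl)
  have hconj : ∀ p ∈ A, x * p * x⁻¹ ∈ A := by
    have hle : A ≤ A.comap (MulAut.conj x).toMonoidHom := (Subgroup.closure_le _).2 (by
      rintro p (rfl | rfl)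
      · show x * u * x⁻¹ ∈ A
        rw [show x * u * x⁻¹ = w₀ by rw [hu, hw₀]; group]
        exact hmv
      · show x * w₀ * x⁻¹ ∈ A
        rw [show x * w₀ * x⁻¹ = (w₀ * u)⁻¹ by
          have e : x * y * x = y⁻¹ * x⁻¹ * y⁻¹ := by
            have e' : x * y * x = (x * y) ^ 3 * (y⁻¹ * x⁻¹ * y⁻¹) := by rw [pow_succ, pow_two]; group
            rw [e', hxy, one_mul]
          calc x * w₀ * x⁻¹ = x * y * (x⁻¹ * x⁻¹) := by rw [hw₀]; group
            _ = y⁻¹ * (x⁻¹)⁻¹⁻¹ * y⁻¹ := by rw [hxx, e, inv_inv]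
            _ = (y * x * y)⁻¹ := by group
            _ = (y * (x⁻¹ * x⁻¹) * y)⁻¹ := by rw [hxx]
            _ = (w₀ * u)⁻¹ := by rw [hu, hw₀]; group]
        exact A.inv_mem (A.mul_mem hmv hmu))
    exact fun p hp => hle hp
  by_cases h3 : ∃ w ∈ A, w ^ 3 = 1 ∧ w ≠ 1
  · left
    obtain ⟨w, hwA, hw3, hw1⟩ := h3
    obtain ⟨q, hqA, hq1, hqx⟩ : ∃ q ∈ A, q ≠ 1 ∧ x * q * x⁻¹ = q := by
      set w' := x * w * x⁻¹ with hw'
      set w'' := x * w' * x⁻¹ with hw''
      have hA' : w' ∈ A := hconj w hwA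
      have hA'' : w'' ∈ A := hconj w' hA'
      have h3' : w' ^ 3 = 1 := by rw [hw', conj_pow, hw3]; group
      have hback : x * w'' * x⁻¹ = w := by
        calc x * w'' * x⁻¹ = x ^ 3 * w * (x ^ 3)⁻¹ := by rw [hw'', hw', pow_succ, pow_two]; group
          _ = w := by rw [hx]; group
      by_cases hN : w * w' * w'' = 1
      · by_cases hd : w' * w⁻¹ = 1
        · exact ⟨w, hwA, hw1, mul_inv_eq_one.1 hd⟩
        · refine ⟨w' * w⁻¹, A.mul_mem hA' (A.inv_mem hwA), hd, ?_⟩
          have e2 : w'' = w'⁻¹ * w⁻¹ := by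
            rw [eq_inv_of_mul_eq_one_right hN, mul_inv_rev]
          have h2' : w'⁻¹ * w'⁻¹ = w' := by
            calc w'⁻¹ * w'⁻¹ = w'⁻¹ * w'⁻¹ * w' ^ 3 := by rw [h3', mul_one]
              _ = w' := by rw [pow_succ, pow_two]; group
          calc x * (w' * w⁻¹) * x⁻¹ = w'' * w'⁻¹ := by rw [hw'', hw']; group
            _ = w'⁻¹ * (w'⁻¹ * w⁻¹) := by
                rw [e2, hAc _ (A.mul_mem (A.inv_mem hA') (A.inv_mem hwA)) _ (A.inv_mem hA')]
            _ = w' * w⁻¹ := by rw [← mul_assoc, h2']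
      · refine ⟨w * w' * w'', A.mul_mem (A.mul_mem hwA hA') hA'', hN, ?_⟩
        calc x * (w * w' * w'') * x⁻¹ = w' * w'' * (x * w'' * x⁻¹) := by rw [hw'', hw']; group
          _ = w * (w' * w'') := by rw [hback, hAc _ (A.mul_mem hA' hA'') _ hwA]
          _ = w * w' * w'' := (mul_assoc _ _ _).symm
    have hqV : q ∈ V :=
      h.cent x hxV hx1 (Subgroup.mem_centralizer_singleton_iff.2 (mul_inv_eq_iff_eq_mul.1 hqx).symm)
    have huV : u ∈ V :=
      h.cent q hqV hq1 (Subgroup.mem_centralizer_singleton_iff.2 (hAc u hmu q hqA))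
    exact hz y (by rw [show y = x * u by rw [hu]; group]; exact V.mul_mem hxV huV)
  · right
    let f : A → A := fun p => ⟨x⁻¹ * (p : G) * x * (p : G)⁻¹, A.mul_mem (by
      have := hconj _ (hconj _ p.2)
      rwa [show x * (x * (p : G) * x⁻¹) * x⁻¹ = x⁻¹ * (p : G) * x by
        calc x * (x * (p : G) * x⁻¹) * x⁻¹ = x ^ 3 * (x⁻¹ * (p : G) * x) * (x ^ 3)⁻¹ := by
              rw [pow_succ, pow_two]; group
          _ = _ := by rw [hx]; group] at this) (A.inv_mem p.2)⟩
    have hf : Function.Injective f := by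
      intro p q e
      have e' : x⁻¹ * (p : G) * x * (p : G)⁻¹ = x⁻¹ * (q : G) * x * (q : G)⁻¹ := congrArg Subtype.val e
      by_contra hne
      refine h3 ⟨(q : G)⁻¹ * p, A.mul_mem (A.inv_mem q.2) p.2, ?_,
        fun e1 => hne (Subtype.ext (inv_mul_eq_one.1 e1).symm)⟩
      refine h.exp _ (h.cent x hxV hx1 (Subgroup.mem_centralizer_singleton_iff.2 ?_))
      calc (q : G)⁻¹ * p * x = (q : G)⁻¹ * x * (x⁻¹ * (p : G) * x * (p : G)⁻¹) * p := by group
        _ = (q : G)⁻¹ * x * (x⁻¹ * (q : G) * x * (q : G)⁻¹) * p := by rw [e']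
        _ = x * ((q : G)⁻¹ * p) := by group
    obtain ⟨p, hp⟩ := (Finite.injective_iff_surjective.1 hf) ⟨u, hmu⟩
    refine isConj_iff.2 ⟨(p : G), ?_⟩
    have e' : x⁻¹ * (p : G) * x * (p : G)⁻¹ = x⁻¹ * y := congrArg Subtype.val hp
    calc (p : G) * x * (p : G)⁻¹ = x * (x⁻¹ * (p : G) * x * (p : G)⁻¹) := by group
      _ = y := by rw [e', mul_inv_cancel_left]

/-- Products of a conjugate of a central element and of another class landing in `V` are formed in `V`. -/
theorem T3.local_pairs [Finite G] (h : T3 V) {a b x y z : G} (ha : a ∈ V) (ha1 : a ≠ 1)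
    (hz : ∀ v ∈ V, a * v = v * a) (hb : b ∈ V) (hab : ¬ IsConj a b) (hx : x ∈ V) (hx1 : x ≠ 1)
    (hy : IsConj a y) (hzb : IsConj b z) (hyz : y * z = x) : y ∈ V ∧ z ∈ V := by
  obtain ⟨k, hk⟩ := isConj_iff.1 hy
  set g := k⁻¹ with hg
  have hgy : g * y * g⁻¹ = a := by rw [← hk, hg]; group
  have hz3 : (g * z * g⁻¹) ^ 3 = 1 := by
    obtain ⟨l, hl⟩ := isConj_iff.1 hzb
    rw [← hl, conj_pow, conj_pow, h.exp b hb]; group
  have hprod : a * (g * z * g⁻¹) = g * x * g⁻¹ := by rw [← hgy, ← hyz]; group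
  rcases h.triple ha ha1 hz hz3 (by rw [hprod, conj_pow, h.exp x hx]; group) with e | e
  · have hzV : g * z * g⁻¹ ∈ V :=
      h.cent a ha ha1 (Subgroup.mem_centralizer_singleton_iff.2 e.symm)
    have hgN := h.ti g x hx hx1 (hprod ▸ V.mul_mem ha hzV)
    exact ⟨(Subgroup.mem_normalizer_iff.1 hgN y).2 (hgy ▸ ha),
      (Subgroup.mem_normalizer_iff.1 hgN z).2 hzV⟩
  · exact absurd (e.trans ((isConj_iff.2 ⟨g⁻¹, by group⟩ : IsConj (g * z * g⁻¹) z).trans hzb.symm)) hab

variable [Fintype G]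

/-- The sum of a linear character over the normalizer, divided by the order. -/
noncomputable def Sf (V : Subgroup G) (μ : V →* ℂˣ) (x : V) : ℂ :=
  (Nat.card V : ℂ)⁻¹ * ∑ᶠ n : Subgroup.normalizer (V : Set G), (μ (cj V n x) : ℂ)

/-- Induced functions on `V#` are sums over the normalizer. -/
theorem T3.indFun_el (h : T3 V) (f : V → ℂ) {x : V} (hx : x ≠ 1) :
    indFun V f (x : G) = (Nat.card V : ℂ)⁻¹ * ∑ᶠ n : Subgroup.normalizer (V : Set G), f (cj V n x) := by
  classical
  rw [finsum_eq_sum_of_fintype, indFun]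
  congr 1
  have key : ∀ y : G, extendByZero V f (y⁻¹ * (x : G) * y) =
      if y ∈ Subgroup.normalizer (V : Set G) then extendByZero V f (y⁻¹ * (x : G) * y) else 0 := by
    intro y
    split_ifs with hy
    · rfl
    · refine extendByZero_not_mem V _ fun hm => hy ?_
      have := h.ti y⁻¹ x x.2 (fun e => hx (Subtype.ext e)) (by simpa using hm)
      simpa using Subgroup.inv_mem _ this
  rw [Finset.sum_congr rfl fun y _ => key y, ← Finset.sum_filter,
    Finset.sum_subtype (p := fun y => y ∈ Subgroup.normalizer (V : Set G)) _ (fun y => by simp),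
    ← Equiv.sum_comp (Equiv.inv (Subgroup.normalizer (V : Set G)))]
  refine Finset.sum_congr rfl fun n _ => ?_
  have e : (((Equiv.inv (Subgroup.normalizer (V : Set G))) n : Subgroup.normalizer (V : Set G)) : G)⁻¹ *
      (x : G) * (((Equiv.inv (Subgroup.normalizer (V : Set G))) n : Subgroup.normalizer (V : Set G)) : G) =
      ((cj V n x : V) : G) := by
    rw [cj_coe]
    simp
  rw [e, extendByZero_mem V f (cj V n x).2]

/-- The induced function attached to a linear character. -/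
noncomputable def R (V : Subgroup G) (μ : V →* ℂˣ) : G → ℂ :=
  indFun V (fun x => 1 - (μ x : ℂ))

theorem R_gen (μ : V →* ℂˣ) : Gen (R V μ) :=
  isGeneralizedCharacter_indFun V (isGeneralizedCharacter_sub
    (isGeneralizedCharacter_of_isCharacter (isCharacter_of_isIrr isIrrCharacter_one))
    (isGeneralizedCharacter_of_isCharacter (isCharacter_hom μ)))

theorem R_one (μ : V →* ℂˣ) : R V μ 1 = 0 := by
  rw [R, indFun_one]
  simp

theorem inner_R_one (μ : V →* ℂˣ) (hμ : μ ≠ 1) : classInner (R V μ) (fun _ => 1) = 1 := by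
  classical
  haveI := Fintype.ofFinite V
  rw [R, classInner_indFun V _ _ (fun _ _ => rfl)]
  simp only [classInner, map_one, mul_one, Finset.sum_sub_distrib, Finset.sum_const, Finset.card_univ,
    nsmul_eq_mul, mul_one]
  have h0 : ∑ x : V, (μ x : ℂ) = 0 := by
    obtain ⟨c, hc⟩ : ∃ c, μ c ≠ 1 := by
      by_contra hc
      push Not at hc
      exact hμ (MonoidHom.ext hc)
    have e : ∑ x : V, (μ x : ℂ) = (μ c : ℂ) * ∑ x : V, (μ x : ℂ) := by
      rw [Finset.mul_sum, ← Equiv.sum_comp (Equiv.mulLeft c)]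
      exact Finset.sum_congr rfl fun x _ => by simp
    have hc' : (μ c : ℂ) - 1 ≠ 0 := sub_ne_zero.2 fun e1 => hc (Units.ext e1)
    exact (mul_eq_zero.1 (show ((μ c : ℂ) - 1) * ∑ x : V, (μ x : ℂ) = 0 by linear_combination -e)).resolve_left hc'
  rw [h0, sub_zero, Nat.card_eq_fintype_card, inv_mul_cancel₀ (by exact_mod_cast Fintype.card_ne_zero)]

theorem T3.R_el (h : T3 V) (μ : V →* ℂˣ) {x : V} (hx : x ≠ 1) :
    R V μ (x : G) = (Nat.card (Subgroup.normalizer (V : Set G)) : ℂ) / (Nat.card V : ℂ) - Sf V μ x := by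
  classical
  haveI := Fintype.ofFinite (Subgroup.normalizer (V : Set G))
  rw [R, h.indFun_el _ hx, Sf, finsum_eq_sum_of_fintype, finsum_eq_sum_of_fintype, Finset.sum_sub_distrib,
    Finset.sum_const, Finset.card_univ, nsmul_eq_mul, mul_one, mul_sub, ← Nat.card_eq_fintype_card]
  ring

end CfsgLib.Char.ThreeTI
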